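import Cfsg.Agent.H792.CY.OutCyc
import Cfsg.Agent.H186.CY.Fi23

/-!
# S4829: the rows of the sporadic groups with `Out = 1`, `p` odd, without hypotheses (helper792)
-/

set_option autoImplicit false

namespace Cfsg.Agent.H792.CY

open Cfsg Cfsg.Agent.H770.CY Cfsg.Agent.H629.CY

/-- **the rows of the sporadic groups with `Out = 1`**, every odd prime -/
theorem rowA_out {p : ℕ} [hp : Fact p.Prime] (h2 : p ≠ 2) {S : Type} [Group S] [Fintype S] [IsSimpleGroup S]
    (hna : ¬ IsMulCommutative S) (hd : p ∣ Nat.card S) (h : OutOne S) : RowA p S :=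
  rowA_outOne h2 hna hd h H186.CY.witC_fi23_five

end Cfsg.Agent.H792.CY
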