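import Cfsg.Agent.H770.CY.Defs
import Cfsg.Agent.H493.RatB.WitS
import Cfsg.Agent.Characters.GaloisIrr

/-!
# S4829, sporadic rows: all automorphisms inner (helper792)

* `value_of_mem` : `χ` in the principal block, `p` not dividing `|G : C(g)|`: `χ g ≡ χ 1`;
* `cyc_of_rat` : rational valued characters;
* `rowA_of_witR` : `WitR p S` gives `RowA p S` if all automorphisms are inner.
-/

set_option autoImplicit false

namespace Cfsg.Agent.H792.CY

open Cfsg Subgroup Cfsg.Agent.Blocks Cfsg.Agent.H770.CY Cfsg.Agent.H493.RatB Cfsg.Agent.Characters.Core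
open scoped ComplexConjugate

universe u

/-- **The value of a character of the principal block.** -/
theorem value_of_mem {G : Type u} [Group G] [Finite G] {p : ℕ} [hp : Fact p.Prime] {M : Ideal AlgInt}
    (hM : IsPModular p M) {χ : IrrCharacter G} (hχ : χ ∈ principalBlock M G) {g : G}
    (hg : ¬ p ∣ (centralizer ({g} : Set G)).index) : MemLocalIdeal M ((χ : G → ℂ) g - (χ : G → ℂ) 1) := by
  have hprime : M.IsPrime := Blocks.Local.isPrime_of_isPModular hM
  have hdeg := Blocks.Basic.irr_one_eq_charDegree χ.2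
  have hd0 : (χ : G → ℂ) 1 ≠ 0 := Blocks.Basic.irr_one_ne_zero χ.2
  set m : ℕ := (centralizer ({g} : Set G)).index with hm
  have h1 : MemLocalIdeal M (centralChar (fun _ : G => (1 : ℂ)) g - centralChar (χ : G → ℂ) g) := hχ g
  have h2 := Blocks.LocalRing.memLocalIdeal_mul_left hM
    (Blocks.LocalRing.memLocalRing_natCast hM (charDegree (χ : G → ℂ))) h1
  have e1 : (charDegree (χ : G → ℂ) : ℂ) * (centralChar (fun _ : G => (1 : ℂ)) g -
      centralChar (χ : G → ℂ) g) = m * ((χ : G → ℂ) 1 - (χ : G → ℂ) g) := by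
    rw [Blocks.Basic.centralChar_def, Blocks.Basic.centralChar_def, ← hm, ← hdeg]
    field_simp
  rw [e1] at h2
  have h3 := H684.Principal.memLocalIdeal_of_mul hM hg h2
  have h4 := Blocks.LocalRing.memLocalIdeal_mul_left hM (Blocks.LocalRing.memLocalRing_natCast hM 1) h3
  have h5 := Blocks.LocalRing.memLocalIdeal_sub hM (Blocks.LocalRing.memLocalIdeal_sub hM h3 h3) h3
  rw [sub_self, zero_sub, neg_sub] at h5
  exact h5

/-- rational valued characters -/
theorem cyc_of_rat {p : ℕ} {G : Type u} [Group G] [Finite G] {χ : G → ℂ} (hχ : IsCharacter G χ) (h : RatV χ) :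
    Cyc p χ := by
  intro k hk _ g
  obtain ⟨σ, hσ⟩ := Cfsg.Agent.Characters.GaloisBasic.exists_ringEquiv_of_coprime hk
  obtain ⟨q, hq⟩ := h g
  rw [← hσ χ hχ g, hq, map_ratCast]

/-- the centralizer of a `p`-subgroup of index prime to `p` -/
theorem not_dvd_index {G : Type u} [Group G] [Finite G] {p : ℕ} [hp : Fact p.Prime] (Q : Sylow p G) {g : G}
    (h : ∀ x ∈ Q, x * g = g * x) : ¬ p ∣ (centralizer ({g} : Set G)).index := by
  have hle : (Q : Subgroup G) ≤ centralizer ({g} : Set G) := fun x hx => mem_centralizer_singleton_iff.2 (h x hx)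
  intro hd
  exact Q.not_dvd_index (hd.trans (index_dvd_of_le hle))

/-- **All automorphisms inner.** -/
theorem rowA_of_witR {p : ℕ} [hp : Fact p.Prime] {S : Type u} [Group S] [Fintype S] (hz : center S = ⊥)
    (hout : ∀ a : MulAut S, a ∈ (MulAut.conj : S →* MulAut S).range) (h : WitR p S) : RowA p S := by
  classical
  intro A hA M hM
  obtain ⟨θ, h1, h2, h3, h4⟩ := h M hM
  let f : S →* A := (MulAut.conj : S →* MulAut S).codRestrict A (fun s => hA.1 s)
  have hinj : Function.Injective f := by
    rw [injective_iff_map_eq_one]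
    intro s hs
    have h5 : MulAut.conj s = 1 := congrArg Subtype.val hs
    have h6 : s ∈ center S := by
      rw [mem_center_iff]
      intro x
      have h7 := congrArg (fun a : MulAut S => a x) h5
      simp only [MulAut.conj_apply, MulAut.one_apply] at h7
      exact (mul_inv_eq_iff_eq_mul.1 h7).symm
    rw [hz] at h6
    exact h6
  have hsurj : Function.Surjective f := by
    rintro ⟨a, ha⟩
    obtain ⟨s, hs⟩ := hout a
    exact ⟨s, Subtype.ext hs⟩
  let e : S ≃* A := MulEquiv.ofBijective f ⟨hinj, hsurj⟩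
  have hfin : Finite A := Finite.of_equiv S e.toEquiv
  have he : ∀ s, e.symm ⟨MulAut.conj s, hA.1 s⟩ = s := fun s => e.symm_apply_apply s
  have hchar : IsCharacter A (fun a => (θ : S → ℂ) (e.symm a)) :=
    isCharacter_comp e.symm.toMonoidHom (isIrr_isCharacter θ.2)
  have hres : res hA.1 (fun a : A => (θ : S → ℂ) (e.symm a)) = (θ : S → ℂ) := by
    funext s
    exact congrArg _ (he s)
  refine ⟨fun a => (θ : S → ℂ) (e.symm a), hchar, cyc_of_rat hchar fun a => h4 _, ?_, ?_, ?_⟩
  · refine ⟨charDegree (θ : S → ℂ), ?_, h3⟩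
    show (θ : S → ℂ) (e.symm 1) = _
    rw [map_one]
    exact Blocks.Basic.irr_one_eq_charDegree θ.2
  · intro θ'
    rw [hres]
    by_cases hθ : (θ : S → ℂ) = θ'
    · right
      refine ⟨?_, ?_, ?_⟩
      · rw [← hθ]
        exact classInner_irr_self θ.2
      · rw [← hθ]
        exact h2
      · rw [← hθ]
        exact cyc_of_rat (isIrr_isCharacter θ.2) h4
    · left
      exact classInner_irr_ne θ.2 θ'.2 hθ
  · rintro a - ⟨Q, hQ⟩
    show MemLocalIdeal M ((θ : S → ℂ) (e.symm a) - (θ : S → ℂ) (e.symm 1))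
    rw [map_one]
    refine value_of_mem hM h1 (not_dvd_index Q fun x hx => ?_)
    have h5 := hQ x hx
    have h6 : (a : MulAut S) = MulAut.conj (e.symm a) := by
      have := congrArg Subtype.val (e.apply_symm_apply a)
      exact this.symm
    rw [h6, MulAut.conj_apply] at h5
    exact (mul_inv_eq_iff_eq_mul.1 h5).symm

end Cfsg.Agent.H792.CY
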