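import Cfsg.Agent.H792.CY.Inner
import Cfsg.Agent.H629.CY.Defs
import Cfsg.Agent.S0914
import Cfsg.Agent.Blocks.CyclicUpper

/-!
# S4829, sporadic rows, all automorphisms inner: `ℚ(ζ_p)`-valued witnesses (helper792)

* `witC_of_witR`, `rowA_of_witC` : `WitC p S` gives `RowA p S` if all automorphisms are inner;
* `not_dvd_deg` : `p² ∤ |G|`: the characters of the principal block have degree prime to `p`.
-/

set_option autoImplicit false

namespace Cfsg.Agent.H792.CY

open Cfsg Subgroup Cfsg.Agent.Blocks Cfsg.Agent.H770.CY Cfsg.Agent.H493.RatB Cfsg.Agent.Characters.Core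
open Cfsg.Agent.H629.CY

universe u

theorem witC_of_witR {p : ℕ} {S : Type u} [Group S] [Finite S] (h : WitR p S) : WitC p S := fun M hM => by
  obtain ⟨θ, h1, h2, h3, h4⟩ := h M hM
  exact ⟨θ, h1, h2, h3, cyc_of_rat (isIrr_isCharacter θ.2) h4⟩

/-- **All automorphisms inner**, `ℚ(ζ_p)`-valued witness. -/
theorem rowA_of_witC {p : ℕ} [hp : Fact p.Prime] {S : Type u} [Group S] [Fintype S] (hz : center S = ⊥)
    (hout : ∀ a : MulAut S, a ∈ (MulAut.conj : S →* MulAut S).range) (h : WitC p S) : RowA p S := by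
  classical
  intro A hA M hM
  obtain ⟨θ, h1, h2, h3, h4⟩ := h M hM
  let f : S →* A := (MulAut.conj : S →* MulAut S).codRestrict A (fun s => hA.1 s)
  have hinj : Function.Injective f := by
    rw [injective_iff_map_eq_one]
    intro s hs
    have h5 : MulAut.conj s = 1 := congrArg Subtype.val hs
    have h6 : s ∈ center S := by
      rw [mem_center_iff]
      intro x
      have h7 := congrArg (fun a : MulAut S => a x) h5
      simp only [MulAut.conj_apply, MulAut.one_apply] at h7
      exact (mul_inv_eq_iff_eq_mul.1 h7).symm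
    rw [hz] at h6
    exact h6
  have hsurj : Function.Surjective f := by
    rintro ⟨a, ha⟩
    obtain ⟨s, hs⟩ := hout a
    exact ⟨s, Subtype.ext hs⟩
  let e : S ≃* A := MulEquiv.ofBijective f ⟨hinj, hsurj⟩
  have hfin : Finite A := Finite.of_equiv S e.toEquiv
  have he : ∀ s, e.symm ⟨MulAut.conj s, hA.1 s⟩ = s := fun s => e.symm_apply_apply s
  have hchar : IsCharacter A (fun a => (θ : S → ℂ) (e.symm a)) :=
    isCharacter_comp e.symm.toMonoidHom (isIrr_isCharacter θ.2)
  have hres : res hA.1 (fun a : A => (θ : S → ℂ) (e.symm a)) = (θ : S → ℂ) := by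
    funext s
    exact congrArg _ (he s)
  refine ⟨fun a => (θ : S → ℂ) (e.symm a), hchar, ?_, ?_, ?_, ?_⟩
  · intro k hk hk1 a
    show (θ : S → ℂ) (e.symm (a ^ k)) = (θ : S → ℂ) (e.symm a)
    rw [map_pow]
    exact h4 k (by rwa [Nat.card_congr e.toEquiv]) hk1 _
  · refine ⟨charDegree (θ : S → ℂ), ?_, h3⟩
    show (θ : S → ℂ) (e.symm 1) = _
    rw [map_one]
    exact Blocks.Basic.irr_one_eq_charDegree θ.2
  · intro θ'
    rw [hres]
    by_cases hθ : (θ : S → ℂ) = θ'
    · right
      refine ⟨?_, ?_, ?_⟩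
      · rw [← hθ]
        exact classInner_irr_self θ.2
      · rw [← hθ]
        exact h2
      · rw [← hθ]
        exact h4
    · left
      exact classInner_irr_ne θ.2 θ'.2 hθ
  · rintro a - ⟨Q, hQ⟩
    show MemLocalIdeal M ((θ : S → ℂ) (e.symm a) - (θ : S → ℂ) (e.symm 1))
    rw [map_one]
    refine value_of_mem hM h1 (not_dvd_index Q fun x hx => ?_)
    have h5 := hQ x hx
    have h6 : (a : MulAut S) = MulAut.conj (e.symm a) := by
      have := congrArg Subtype.val (e.apply_symm_apply a)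
      exact this.symm
    rw [h6, MulAut.conj_apply] at h5
    exact (mul_inv_eq_iff_eq_mul.1 h5).symm

/-- **`p² ∤ |G|`: the characters of the principal block have degree prime to `p`.** -/
theorem not_dvd_deg {G : Type u} [Group G] [Finite G] {p : ℕ} [hp : Fact p.Prime] {M : Ideal AlgInt}
    (hM : IsPModular p M) (h2 : ¬ p ^ 2 ∣ Nat.card G) {χ : IrrCharacter G} (hχ : χ ∈ principalBlock M G) :
    ¬ p ∣ charDegree (χ : G → ℂ) := by
  intro h
  have hdd : charDegree (χ : G → ℂ) ∣ Nat.card G := Cfsg.Agent.Blocks.CyclicUpper.charDegree_dvd χ.2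
  have h1 : ¬ p ∣ Nat.card G / charDegree (χ : G → ℂ) := by
    intro h3
    apply h2
    obtain ⟨c, hc⟩ := hdd
    have hpos : 0 < charDegree (χ : G → ℂ) := by
      rcases Nat.eq_zero_or_pos (charDegree (χ : G → ℂ)) with h0 | h0
      · rw [h0, zero_mul] at hc
        exact absurd hc Nat.card_pos.ne'
      · exact h0
    rw [hc, Nat.mul_div_cancel_left _ hpos] at h3
    rw [hc, pow_two]
    exact mul_dvd_mul h h3
  have h3 := (S0914.result p M hM χ).1 h1
  have htriv : IsIrrCharacter G (fun _ : G => (1 : ℂ)) := Cfsg.Agent.Blocks.Basic.isIrrCharacter_one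
  have h4 : (⟨fun _ => 1, htriv⟩ : IrrCharacter G) ∈ blockOf M (χ : G → ℂ) := by
    have h5 : SameBlock M (fun _ : G => (1 : ℂ)) (χ : G → ℂ) := hχ
    have hprime : M.IsPrime := Blocks.Local.isPrime_of_isPModular hM
    exact Blocks.Basic.sameBlock_symm h5
  rw [h3, Set.mem_singleton_iff] at h4
  rw [← h4] at h
  have h5 : charDegree (fun _ : G => (1 : ℂ)) = 1 := by
    unfold charDegree
    simp
  exact hp.out.one_lt.ne' (Nat.dvd_one.1 (h5 ▸ h))

end Cfsg.Agent.H792.CY
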